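import Cfsg.Agent.Lib.Tits.Iso
import Cfsg.Agent.Lib.Tits.Code
import Cfsg.Agent.Lib.Chev.CertG2
import Cfsg.Agent.Lib.Unitary.Simple
import Cfsg.Agent.S1059

/-!
The derived group of G₂(2) is isomorphic to U₃(3).
-/

namespace Cfsg.Lib.Tits
open Cfsg.Lie Cfsg.Lib.Chev Cfsg.Lib.Calc Cfsg.Lib.Mult Cfsg.Lib.Asch Subgroup

namespace U33

/-- parameters -/
def fp : FP := ⟨3, 12, 6, 43, 7⟩

theorem bas : Bas (K := F9) fp 3 2 (Fin.ofNat 3) (fun t => TF.c (3 ^ t)) := by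
  constructor <;> decide +kernel

/-- generators -/
def gl : List (ℕ × ℕ) := [(36010292099, 0x2001000001000002002002002000001000000001001000002001002000000001002002002000001001000002000002002001001000),
  (5675311397, 0x1000001002001000000001001001000001002002000001002000001002002000000002002000000001002002000002002000001002)]

theorem base : LX (SU 3 F9 3) 2 fp (nth (fp.one :: gl.map Prod.snd)) :=
  bas.su (l := gl) TF.card (tmat Fin.val 3) 3 (by decide +kernel) (by decide +kernel)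

theorem card : Nat.card (SU 3 F9 3) = 6048 := by
  have := Unitary.card_SU (F := F9) (q := 3) TF.card (n := 3) (by norm_num)
  rw [show Unitary.guOrder 3 3 = 24192 by decide +kernel] at this
  omega

/-- the centre is trivial -/
noncomputable def eP : PSU 3 F9 3 ≃* SU 3 F9 3 :=
  (QuotientGroup.quotientMulEquivOfEq (card_eq_one.1 (by
    rw [Unitary.card_center_SU (F := F9) (q := 3) TF.card (by norm_num)]; rfl))).trans
    QuotientGroup.quotientBot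

theorem simple : IsSimpleGroup (SU 3 F9 3) :=
  have := Unitary.isSimpleGroup_PSU (F := F9) (q := 3) TF.card (n := 3) le_rfl (by norm_num)
  eP.symm.isSimpleGroup

/-- code -/
def ca : ℕ := 0x1002002002000000001001001002001001001000000001002001000001002000002001000002001000002002001000000001
/-- code -/
def cb : ℕ := 0x1001000002000002002001001000001000000000001001002002000000002001001002001001000001000001002001002000002000
/-- code -/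
def cx : ℕ := 0x8015080208041008001080200040008001000200040018001
/-- code -/
def cy : ℕ := 0x912366c204a040c180100060a400d80080080030000008903
/-- a Sylow subgroup -/
def sw : List (List ℕ) := [[1, 0, 1, 1, 0, 1, 0, 1, 1, 0, 1], [1, 1, 0, 1, 0, 1, 0, 1, 1, 0, 1, 0, 1, 0, 1, 1], [1, 1, 1], [1, 1, 1, 0, 1, 1, 1], [0]]
/-- certificate -/
def ce : ℕ := 0x1000000000000000000000000000000000000000000000000000000000001000200000000000000000000000000000000000000000000000000000004000200070006000000000000000000000000000000000000000000000002000e000800070005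
/-- coset representatives -/
def rw : List (List ℕ) := [[1], [0, 1], [1, 1], [0, 1, 1], [1, 0, 1], [0, 1, 0, 1], [1, 0, 1, 1], [1, 1, 0, 1], [0, 1, 0, 1, 1], [0, 1, 1, 0, 1], [1, 0, 1, 0, 1], [1, 1, 0, 1, 1], [1, 1, 1, 0, 1], [0, 1, 0, 1, 0, 1], [0, 1, 1, 0, 1, 1], [0, 1, 1, 1, 0, 1], [1, 0, 1, 0, 1, 1], [1, 0, 1, 1, 0, 1], [1, 1, 0, 1, 0, 1], [1, 1, 1, 0, 1, 1], [1, 1, 1, 1, 0, 1], [0, 1, 0, 1, 0, 1, 1], [0, 1, 0, 1, 1, 0, 1], [0, 1, 1, 0, 1, 0, 1], [0, 1, 1, 1, 0, 1, 1], [0, 1, 1, 1, 1, 0, 1], [1, 0, 1, 0, 1, 0, 1], [1, 0, 1, 1, 0, 1, 1], [1, 0, 1, 1, 1, 0, 1], [1, 1, 0, 1, 0, 1, 1], [1, 1, 0, 1, 1, 0, 1], [1, 1, 1, 0, 1, 0, 1], [1, 1, 1, 1, 1, 0, 1], [0, 1, 0, 1, 0, 1, 0, 1], [0, 1, 0, 1, 1, 0, 1, 1], [0, 1, 0, 1, 1, 1, 0, 1], [0, 1, 1, 0, 1, 0, 1, 1], [0, 1, 1, 0, 1, 1, 0, 1], [0, 1, 1, 1, 0, 1, 0, 1], [0, 1, 1, 1, 1, 1, 0, 1], [1, 0, 1, 0, 1, 0, 1,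 1], [1, 0, 1, 0, 1, 1, 0, 1], [1, 0, 1, 1, 0, 1, 0, 1], [1, 0, 1, 1, 1, 0, 1, 1], [1, 0, 1, 1, 1, 1, 0, 1], [1, 1, 0, 1, 0, 1, 0, 1], [1, 1, 0, 1, 1, 0, 1, 1], [1, 1, 0, 1, 1, 1, 0, 1], [1, 1, 1, 0, 1, 0, 1, 1], [1, 1, 1, 0, 1, 1, 0, 1], [1, 1, 1, 1, 0, 1, 0, 1], [0, 1, 0, 1, 0, 1, 1, 0, 1], [0, 1, 0, 1, 1, 0, 1, 0, 1], [0, 1, 0, 1, 1, 1, 0, 1, 1], [0, 1, 0, 1, 1, 1, 1, 0, 1], [0, 1, 1, 0, 1, 0, 1, 0, 1], [0, 1, 1, 0, 1, 1, 1, 0, 1], [0, 1, 1, 1, 0, 1, 0, 1, 1], [0, 1, 1, 1, 0, 1, 1, 0, 1], [0, 1, 1, 1, 1, 0, 1, 0, 1], [1, 0, 1, 0, 1, 1, 0, 1, 1], [1, 0, 1, 0, 1, 1, 1, 0, 1], [1, 0, 1, 1, 0, 1, 0, 1, 1], [1, 0, 1, 1, 0, 1, 1, 0, 1], [1, 0, 1, 1, 1, 0, 1, 0, 1], [1, 0, 1, 1, 1, 1, 1, 0, 1], [1, 1, 0, 1, 0, 1, 0, 1, 1], [1, 1, 0, 1, 1, 0, 1, 0, 1], [1, 1, 0, 1, 1, 1, 0, 1, 1], [1, 1, 0, 1, 1, 1, 1, 0, 1], [1, 1, 1, 0, 1, 0, 1, 0, 1], [1, 1, 1, 0, 1, 1, 0,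 1, 1], [1, 1, 1, 1, 0, 1, 0, 1, 1], [1, 1, 1, 1, 0, 1, 1, 0, 1], [1, 1, 1, 1, 1, 0, 1, 0, 1], [0, 1, 0, 1, 0, 1, 1, 0, 1, 1], [0, 1, 0, 1, 0, 1, 1, 1, 0, 1], [0, 1, 0, 1, 1, 0, 1, 1, 0, 1], [0, 1, 0, 1, 1, 1, 0, 1, 0, 1], [0, 1, 1, 0, 1, 0, 1, 0, 1, 1], [0, 1, 1, 0, 1, 1, 0, 1, 0, 1], [0, 1, 1, 0, 1, 1, 1, 0, 1, 1], [0, 1, 1, 0, 1, 1, 1, 1, 0, 1], [0, 1, 1, 1, 0, 1, 0, 1, 0, 1], [0, 1, 1, 1, 0, 1, 1, 0, 1, 1], [0, 1, 1, 1, 1, 0, 1, 0, 1, 1], [0, 1, 1, 1, 1, 0, 1, 1, 0, 1], [0, 1, 1, 1, 1, 1, 0, 1, 0, 1], [1, 0, 1, 0, 1, 0, 1, 1, 0, 1], [1, 0, 1, 0, 1, 1, 1, 0, 1, 1], [1, 0, 1, 0, 1, 1, 1, 1, 0, 1], [1, 0, 1, 1, 1, 0, 1, 1, 0, 1], [1, 0, 1, 1, 1, 1, 0, 1, 0, 1], [1, 1, 0, 1, 0, 1, 1, 0, 1, 1], [1, 1, 0, 1, 0, 1, 1, 1, 0, 1], [1, 1, 0, 1, 1, 0, 1, 0, 1, 1], [1, 1, 0, 1, 1, 1, 0, 1, 0, 1], [1, 1, 0, 1, 1, 1, 1, 1, 0, 1], [1, 1, 1, 0, 1, 0, 1, 0, 1, 1], [1,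 1, 1, 0, 1, 1, 0, 1, 0, 1], [1, 1, 1, 0, 1, 1, 1, 1, 0, 1], [1, 1, 1, 1, 0, 1, 0, 1, 0, 1], [1, 1, 1, 1, 1, 0, 1, 0, 1, 1], [0, 1, 0, 1, 0, 1, 0, 1, 1, 0, 1], [0, 1, 0, 1, 0, 1, 1, 1, 0, 1, 1], [0, 1, 0, 1, 0, 1, 1, 1, 1, 0, 1], [0, 1, 0, 1, 1, 1, 1, 0, 1, 0, 1], [0, 1, 1, 0, 1, 0, 1, 1, 0, 1, 1], [0, 1, 1, 0, 1, 0, 1, 1, 1, 0, 1], [0, 1, 1, 0, 1, 1, 0, 1, 0, 1, 1], [0, 1, 1, 0, 1, 1, 1, 0, 1, 0, 1], [0, 1, 1, 0, 1, 1, 1, 1, 1, 0, 1], [0, 1, 1, 1, 0, 1, 0, 1, 0, 1, 1], [0, 1, 1, 1, 0, 1, 1, 0, 1, 0, 1], [0, 1, 1, 1, 0, 1, 1, 1, 1, 0, 1], [0, 1, 1, 1, 1, 0, 1, 0, 1, 0, 1], [1, 0, 1, 0, 1, 0, 1, 1, 1, 0, 1], [1, 0, 1, 0, 1, 1, 0, 1, 1, 0, 1], [1, 0, 1, 0, 1, 1, 1, 0, 1, 0, 1], [1, 0, 1, 1, 0, 1, 1, 0, 1, 0, 1], [1, 0, 1, 1, 0, 1, 1, 1, 0, 1, 1], [1, 0, 1, 1, 1, 0, 1, 0, 1, 0, 1], [1, 0, 1, 1, 1, 1, 0, 1, 0, 1, 1], [1, 0, 1, 1, 1, 1, 0, 1, 1, 0, 1], [1, 1,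 1, 0, 1, 0, 1, 1, 0, 1, 1], [1, 1, 1, 0, 1, 0, 1, 1, 1, 0, 1], [1, 1, 1, 0, 1, 1, 0, 1, 0, 1, 1], [1, 1, 1, 0, 1, 1, 1, 1, 1, 0, 1], [1, 1, 1, 1, 0, 1, 0, 1, 0, 1, 1], [1, 1, 1, 1, 0, 1, 1, 1, 1, 0, 1], [0, 1, 0, 1, 0, 1, 0, 1, 1, 1, 0, 1], [0, 1, 0, 1, 0, 1, 1, 0, 1, 1, 0, 1], [0, 1, 0, 1, 0, 1, 1, 1, 0, 1, 0, 1], [0, 1, 0, 1, 1, 0, 1, 1, 0, 1, 0, 1], [0, 1, 0, 1, 1, 0, 1, 1, 1, 0, 1, 1], [0, 1, 0, 1, 1, 1, 1, 0, 1, 0, 1, 1], [0, 1, 1, 1, 0, 1, 0, 1, 1, 0, 1, 1], [0, 1, 1, 1, 0, 1, 0, 1, 1, 1, 0, 1], [1, 0, 1, 0, 1, 0, 1, 0, 1, 1, 0, 1], [1, 0, 1, 0, 1, 1, 1, 1, 0, 1, 0, 1], [1, 0, 1, 1, 0, 1, 0, 1, 1, 0, 1, 1], [1, 0, 1, 1, 0, 1, 1, 0, 1, 0, 1, 1], [1, 0, 1, 1, 1, 0, 1, 0, 1, 0, 1, 1], [1, 0, 1, 1, 1, 1, 0, 1, 0, 1, 0, 1], [1, 1, 0, 1, 0, 1, 1, 0, 1, 1, 0, 1], [1, 1, 0, 1, 1, 0, 1, 1, 1, 0, 1, 1], [1, 1, 0, 1, 1, 1, 0, 1, 0, 1, 0, 1], [1, 1, 0, 1, 1, 1,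 1, 0, 1, 1, 0, 1], [1, 1, 1, 1, 0, 1, 0, 1, 1, 0, 1, 1], [1, 1, 1, 1, 0, 1, 0, 1, 1, 1, 0, 1], [1, 1, 1, 1, 0, 1, 1, 0, 1, 0, 1, 1], [1, 1, 1, 1, 0, 1, 1, 1, 1, 1, 0, 1], [1, 1, 1, 1, 1, 0, 1, 0, 1, 0, 1, 1], [0, 1, 0, 1, 0, 1, 0, 1, 0, 1, 1, 0, 1], [0, 1, 0, 1, 0, 1, 1, 1, 1, 0, 1, 0, 1], [0, 1, 0, 1, 1, 0, 1, 1, 0, 1, 0, 1, 1], [0, 1, 0, 1, 1, 1, 0, 1, 0, 1, 0, 1, 1], [0, 1, 0, 1, 1, 1, 1, 0, 1, 0, 1, 0, 1], [0, 1, 1, 0, 1, 0, 1, 1, 0, 1, 1, 0, 1], [0, 1, 1, 0, 1, 1, 0, 1, 1, 1, 0, 1, 1], [0, 1, 1, 0, 1, 1, 1, 0, 1, 0, 1, 0, 1], [0, 1, 1, 1, 1, 0, 1, 0, 1, 1, 0, 1, 1], [0, 1, 1, 1, 1, 0, 1, 0, 1, 1, 1, 0, 1], [0, 1, 1, 1, 1, 1, 0, 1, 0, 1, 0, 1, 1], [1, 0, 1, 0, 1, 0, 1, 1, 1, 0, 1, 0, 1], [1, 0, 1, 0, 1, 1, 0, 1, 1, 1, 0, 1, 1], [1, 0, 1, 0, 1, 1, 1, 1, 0, 1, 0, 1, 1], [1, 0, 1, 1, 1, 0, 1, 0, 1, 1, 1, 0, 1], [1, 1, 0, 1, 1, 0, 1, 0, 1, 1, 0, 1, 1], [1,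 1, 0, 1, 1, 1, 0, 1, 0, 1, 0, 1, 1], [1, 1, 0, 1, 1, 1, 1, 0, 1, 0, 1, 0, 1], [1, 1, 1, 0, 1, 0, 1, 1, 0, 1, 1, 0, 1], [1, 1, 1, 0, 1, 1, 0, 1, 1, 1, 0, 1, 1], [1, 1, 1, 1, 1, 0, 1, 0, 1, 1, 1, 0, 1], [1, 1, 1, 1, 1, 0, 1, 1, 0, 1, 0, 1, 1], [0, 1, 1, 0, 1, 1, 0, 1, 0, 1, 1, 0, 1, 1], [0, 1, 1, 0, 1, 1, 1, 0, 1, 0, 1, 0, 1, 1], [0, 1, 1, 1, 0, 1, 1, 0, 1, 1, 1, 0, 1, 1], [0, 1, 1, 1, 1, 1, 0, 1, 0, 1, 1, 1, 0, 1], [1, 0, 1, 0, 1, 1, 0, 1, 1, 0, 1, 0, 1, 1], [1, 0, 1, 0, 1, 1, 1, 0, 1, 0, 1, 0, 1, 1], [1, 0, 1, 0, 1, 1, 1, 1, 0, 1, 0, 1, 0, 1], [1, 0, 1, 1, 0, 1, 1, 0, 1, 1, 1, 0, 1, 1], [1, 0, 1, 1, 1, 1, 0, 1, 0, 1, 1, 0, 1, 1], [1, 0, 1, 1, 1, 1, 0, 1, 0, 1, 1, 1, 0, 1], [1, 1, 0, 1, 0, 1, 1, 1, 1, 0, 1, 0, 1, 1], [1, 1, 0, 1, 0, 1, 1, 0, 1, 1, 0, 1, 0, 1, 1], [1, 1, 0, 1, 0, 1, 1, 1, 0, 1, 0, 1, 0, 1, 1]]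

theorem tab : tabOK (pm 432 (fp.app fp.d) (F2.mmul 14)) (pr 432 fp.one (F2.idM 14)) (pr 432 ca cx)
    (pr 432 cb cy) sw rw ce
    0xbc001000bb001800ba001000b5000600b8001e00b7001e00b4000000b9000600b6000000ae000000ad000000aa000000a9000000af001e00b3000000b2000000ac000800a6000000b1000000b0000000a8000600a5001500ab000000a7001f00990000009600000095000000930000009200000091000000900000008f0000008e0000008c0000008b000000a400000097001d0098001b00a3000000a200000094000800a1000000a00000009f0000009e0000009d0000009c0000008d0004009b0000009a0000007e0000007d0000007b000000790000007800000077000000760000007500000082000800810018007c0001007f0008008a0000008900000080001300880000007a0006008700000086000000850000008400000083000000660000006500000064000000630000006200000061000000600000005f0000005e0000005d0000005b0000005a000000590000006700080074000000730000007200000071000000700000006f0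000006e0000006d0000006c0000006b0000005c0018006a00000069000000680000004b0000004a0000004900000048000000470000004600000045000000440000004300000041000000400000003e0000003d000000580000005700000056000000550000005400000053000000520000005100000050000000420010004f0000004e0000003f001c004d0000004c000000330000003200000031000000300000002e0000002d0000002c0000002b0000002a0000003c0000003b0000003a000000390000002f001000380000003700000036000000350000003400000029001e0021000000200000001f0000001e0000001d0000001c0000001b0000002800000027000000260000002500000024000000230000002200000015000000140000001300000012000000110000001a000000190000001800000017000000160000000d0000000c0000000b000000100000000f0000000e00000008000000070000000a00000009000000050000000600000003000000040000000100000002000000000010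
    0x9c0016009d000e00880006006e00190074000e00a3000b00a4001c00bc000000bb000000a20017008a00000054000e009a000e0025000000240000003c001b004c000600b300070035001b0083001e00b2000400ba000000b10019007000150084001400b9000000b800000023001500b7000000b0000f00b6000000b5000000b400000085000900580000001600000050001e00af000000ae000000a1001f003a00110087001d00ad000000ac000000ab000000aa000000a0000000a90000009e0014009f001c00a80000001a000900a7000000a60000009b001000a50000006b001c0037001d008900170099000000980000009700000096000000950000009400000018001b00930000009200000069000d0022001a009100000071001b0090000000550016004e001f008f0000006a0002000e001b008e0000004f001b008d0000008c00000086001c00510019008b000000090000006f001d008200000056001d008100000080000000730000007f0000007e0000007d00000052001d00570001006c001d0039001f006d00080068000f007c0000007b000000380011007a0000000a001b0079000000780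0000028001e00770000007600000075000000720013000600000053001d006700000026001400660000006500000019000400640000006300000062000000610000000f000c00600000005f0000005e0000005d0000005c0000003b000e0036000d00270015005b0000005a0000004d001e00590000004b0000004a0000004900000010000400480000004700000046000000450000004400000004001100430000004200000041000000400000003f0000003e0000003d0000003400030002000000330000003200000031000000300000002f0000002e0000002d0000002c0000002b0000002a000000290000002100000017000f00200000001f0000001e0000001d0000001c0000001b00000015000000140000001300000012000000110000000d0000000c0000000b0000000800000007000000000004000500000003000000010000 = true := by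
  decide +kernel

theorem exists_gen : ∃ R : SU 3 F9 3 → ℕ → Prop, Cg R (fp.app fp.d) fp.one ∧
    (∀ g C, R g C → C < 2 ^ 432) ∧ ∃ a b, R a ca ∧ R b cb ∧ cl [a, b] = ⊤ := by
  obtain ⟨R, E, hk, l, hl⟩ := cg_of_lx (L := gl.map Prod.snd) base
  have ha : R (ev l [0, 1, 0, 1, 0, 1, 0, 1]) ca := lit (E.wrd hl _) (by decide +kernel)
  have hb : R (ev l [1, 0, 1, 1, 0, 1, 0, 0]) cb := lit (E.wrd hl _) (by decide +kernel)
  refine ⟨R, E, hk, _, _, ha, hb, ?_⟩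
  generalize ev l _ = a at ha
  generalize ev l _ = b at hb
  have h : RL R [a, b] [ca, cb] := .cons ha (.cons hb .nil)
  have hm := ev_mem (l := [a, b]) fun _ => mem_cl
  have h1 := E.pcOK (E.wrds h sw) (e := ce) (by decide +kernel)
  have h2 : 32 ∣ _ := (h1.card_eq (E.indOK (E.wrds h sw) h1 (by decide +kernel))).symm.dvd.trans
    (card_dvd_of_le (cl_map_ev_le _ _))
  have h3 : 7 ∣ Nat.card (cl [a, b]) := by
    have := Fact.mk Nat.prime_seven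
    rw [← orderOf_eq_prime (p := 7) (x := ev [a, b] [0, 1]) (by
      simpa [ev, pow_succ, mul_assoc] using E.ev_eq h (w := [0, 1, 0, 1, 0, 1, 0, 1, 0, 1, 0, 1, 0, 1])
        (w' := []) (by decide +kernel)) (E.ev_ne h (w' := []) (by decide +kernel))]
    exact orderOf_dvd_natCard _ (hm _)
  have x := E.wrd h [1, 1]
  have y := E.wrd h [0, 1, 1, 0, 1, 1, 1, 1, 0, 1, 1, 0, 1]
  have h4 := nine_dvd (hm _) (hm _) (E.eq (E.mf x y) (E.mf y x) (by decide +kernel))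
    (E.eq (E.mf (E.mf x x) x) E.one (by decide +kernel))
    (E.eq (E.mf (E.mf y y) y) E.one (by decide +kernel)) (E.ne x E.one (by decide +kernel))
    (E.ne y E.one (by decide +kernel)) (E.ne y x (by decide +kernel))
    (E.ne y (E.mf x x) (by decide +kernel))
  have := simple
  exact eq_top_of_dvd (n := 2016) (k := 3) (by omega) (by rw [card]) (by rw [card]; decide)

theorem exists_hom : ∃ φ : SU 3 F9 3 →* chevG2.group (ZMod 2),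
    Function.Injective φ ∧ φ.range = commutator _ := by
  obtain ⟨R, E, hk, a, b, ha, hb, h⟩ := exists_gen
  have E' : Cg (fun g : chevG2.group (ZMod 2) => RM (fI chevG2) g) (F2.mmul 14) (F2.idM 14) :=
    (cg_mat (fI chevG2)).comap (chevG2.group (ZMod 2)).subtype (subtype_injective _)
  have hx := rm_xw checkedG2 (w := [0]) (by decide)
  have hy := rm_xw checkedG2 (w := [2, 6, 9]) (by decide)
  replace hx := lit hx (D := cx) (by decide +kernel)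
  replace hy := lit hy (D := cy) (by decide +kernel)
  obtain ⟨φ, h1, -⟩ := E.exists_hom E' hk ha hb hx hy h (by rw [card]; decide +kernel) tab
  have := simple
  have h2 := Cfsg.Agent.S1059.result (F := ZMod 2) (ZMod.card 2)
  refine ⟨φ, range_eq_commutator (fun hc => ?_) (x := a) (h1 ▸ E'.ne hx E'.one (by decide +kernel))
    Nat.prime_two (by rw [h2, card]; norm_num) (by rw [h2]; norm_num)⟩
  exact E.ne (E.mf ha hb) (E.mf hb ha) (by decide +kernel) (hc.is_comm.comm a b)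

end U33

theorem nonempty_G2_two {F K : Type*} [Field F] [Fintype F] [Field K] [Fintype K]
    (hF : Fintype.card F = 2) (hK : Fintype.card K = 9) :
    Nonempty (commutator (chevG2.group F) ≃* PSU 3 K 3) := by
  obtain ⟨φ, h1, h2⟩ := U33.exists_hom
  let e := chevCongr chevG2 (FiniteField.ringEquivOfCardEq (hF.trans (ZMod.card 2).symm))
  exact ⟨((e.subgroupMap _).trans (MulEquiv.subgroupCongr (by
    rw [h2, commutator_def, map_commutator, map_top_of_surjective _ e.surjective, commutator_def]))).trans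
    (((φ.ofInjective h1).symm.trans U33.eP.symm).trans
      (psuCongr (FiniteField.ringEquivOfCardEq (TF.card.trans hK.symm)) 3 3))⟩

end Cfsg.Lib.Tits
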